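import Groth.Prelude.Def_NonAbH1
import Groth.Agent.CechTorsor.Basic
import Mathlib.Algebra.Category.Grp.FilteredColimits
import Mathlib.CategoryTheory.Sites.Point.Conservative
import Mathlib.CategoryTheory.Sites.Over

/-!
The product of skyscraper sheaves of groups at a family of points of a site: it is a sheaf all of whose
torsors (over every object) are trivial, and a sheaf of groups maps into the one built from its own stalks.
-/

universe u

open CategoryTheory Limits Opposite NonAbH1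

namespace Groth.Agent.GodGrp

variable {C : Type (u + 1)} [Category.{u} C] {J : GrothendieckTopology C}

theorem equalize (Φ : GrothendieckTopology.Point.{u} J) {A B : C} (f g : A ⟶ B) (a : Φ.fiber.obj A)
    (h : Φ.fiber.map f a = Φ.fiber.map g a) :
    ∃ (Z : C) (z : Φ.fiber.obj Z) (e : Z ⟶ A), Φ.fiber.map e z = a ∧ e ≫ f = e ≫ g := by
  let EA : Φ.fiber.Elements := ⟨A, a⟩
  let EB : Φ.fiber.Elements := ⟨B, Φ.fiber.map f a⟩
  let f' : EA ⟶ EB := CategoryOfElements.homMk _ _ f rfl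
  let g' : EA ⟶ EB := CategoryOfElements.homMk _ _ g h.symm
  exact ⟨_, (IsCofiltered.eq f' g').2, (IsCofiltered.eqHom f' g').1, (IsCofiltered.eqHom f' g').2,
    congrArg Subtype.val (IsCofiltered.eq_condition f' g')⟩

theorem refine₂ (Φ : GrothendieckTopology.Point.{u} J) {A B : C} (a : Φ.fiber.obj A) (b : Φ.fiber.obj B) :
    ∃ (Z : C) (z : Φ.fiber.obj Z) (k : Z ⟶ A) (l : Z ⟶ B), Φ.fiber.map k z = a ∧ Φ.fiber.map l z = b := by
  let EA : Φ.fiber.Elements := ⟨A, a⟩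
  let EB : Φ.fiber.Elements := ⟨B, b⟩
  exact ⟨_, (IsCofiltered.min EA EB).2, (IsCofiltered.minToLeft EA EB).1, (IsCofiltered.minToRight EA EB).1,
    (IsCofiltered.minToLeft EA EB).2, (IsCofiltered.minToRight EA EB).2⟩

theorem refine_over (Φ : GrothendieckTopology.Point.{u} J) {A B D : C} (f : A ⟶ D) (g : B ⟶ D)
    (a : Φ.fiber.obj A) (b : Φ.fiber.obj B) (h : Φ.fiber.map f a = Φ.fiber.map g b) :
    ∃ (Z : C) (z : Φ.fiber.obj Z) (k : Z ⟶ A) (l : Z ⟶ B),
      Φ.fiber.map k z = a ∧ Φ.fiber.map l z = b ∧ k ≫ f = l ≫ g := by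
  obtain ⟨Z, z, k, l, hk, hl⟩ := refine₂ Φ a b
  obtain ⟨Z', z', e, he, he'⟩ := equalize Φ (k ≫ f) (l ≫ g) z (by simp [hk, hl, h])
  exact ⟨Z', z', e ≫ k, e ≫ l, by simp [he, hk], by simp [he, hl], by simpa using he'⟩

section Stalk

variable (Φ : GrothendieckTopology.Point.{u} J)

instance hasColimitsOfShape_elements : HasColimitsOfShape Φ.fiber.Elementsᵒᵖ GrpCat.{u + 1} := by
  have : HasColimitsOfShape (FinallySmall.FilteredFinalModel.{u} Φ.fiber.Elementsᵒᵖ) GrpCat.{u + 1} :=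
    ⟨fun F => ⟨⟨⟨GrpCat.FilteredColimits.colimitCocone.{u, u + 1} F,
      GrpCat.FilteredColimits.colimitCoconeIsColimit.{u, u + 1} F⟩⟩⟩⟩
  exact Functor.Final.hasColimitsOfShape_of_final
    (FinallySmall.fromFilteredFinalModel.{u} Φ.fiber.Elementsᵒᵖ)

instance preservesColimitsOfShape_elements :
    PreservesColimitsOfShape Φ.fiber.Elementsᵒᵖ (forget GrpCat.{u + 1}) := by
  have : PreservesColimitsOfShape (FinallySmall.FilteredFinalModel.{u} Φ.fiber.Elementsᵒᵖ)
      (forget GrpCat.{u + 1}) := by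
    have : PreservesFilteredColimitsOfSize.{u, u} (forget GrpCat.{u + 1}) :=
      preservesFilteredColimitsOfSize_shrink.{u, u + 1, u, u + 1} _
    infer_instance
  exact Functor.Final.preservesColimitsOfShape_of_final
    (FinallySmall.fromFilteredFinalModel.{u} Φ.fiber.Elementsᵒᵖ) _

/-- The stalk of a presheaf of groups at a point of the site. -/
noncomputable def stalk (F : Cᵒᵖ ⥤ GrpCat.{u + 1}) : GrpCat.{u + 1} :=
  colimit ((CategoryOfElements.π Φ.fiber).op ⋙ F)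

/-- The germ of a section at a point. -/
noncomputable def germ (F : Cᵒᵖ ⥤ GrpCat.{u + 1}) {X : C} (x : Φ.fiber.obj X) :
    F.obj (op X) ⟶ stalk Φ F :=
  colimit.ι ((CategoryOfElements.π Φ.fiber).op ⋙ F) (op ⟨X, x⟩)

theorem germ_w (F : Cᵒᵖ ⥤ GrpCat.{u + 1}) {X Y : C} (f : X ⟶ Y) (x : Φ.fiber.obj X)
    (z : F.obj (op Y)) :
    germ Φ F x (F.map f.op z) = germ Φ F (Φ.fiber.map f x) z :=
  ConcreteCategory.congr_hom (colimit.w ((CategoryOfElements.π Φ.fiber).op ⋙ F)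
    (CategoryOfElements.homMk ⟨X, x⟩ ⟨Y, Φ.fiber.map f x⟩ f rfl).op) z

theorem germ_eq (F : Cᵒᵖ ⥤ GrpCat.{u + 1}) {X : C} (x : Φ.fiber.obj X) {z₁ z₂ : F.obj (op X)}
    (h : germ Φ F x z₁ = germ Φ F x z₂) :
    ∃ (Y : C) (f : Y ⟶ X) (y : Φ.fiber.obj Y), Φ.fiber.map f y = x ∧ F.map f.op z₁ = F.map f.op z₂ := by
  obtain ⟨⟨Y, y⟩, ⟨f, hf⟩, hf'⟩ :=
    ((colimit.isColimit ((CategoryOfElements.π Φ.fiber).op ⋙ F)).eq_iff' (i := op ⟨X, x⟩) z₁ z₂).1 h
  exact ⟨Y, f, y, hf, hf'⟩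

end Stalk

variable {I : Type u} (Φ : I → GrothendieckTopology.Point.{u} J) (M : I → GrpCat.{u + 1})

/-- The points of an object lying over the chosen family of points. -/
abbrev Pt (V : C) : Type u := Σ i : I, (Φ i).fiber.obj V

/-- The product of the skyscraper presheaves. -/
def godPre : Cᵒᵖ ⥤ GrpCat.{u + 1} where
  obj V := GrpCat.of (∀ p : Pt Φ V.unop, M p.1)
  map f := GrpCat.ofHom
    { toFun g := fun p => g ⟨p.1, (Φ p.1).fiber.map f.unop p.2⟩
      map_one' := rfl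
      map_mul' _ _ := rfl }
  map_id V := GrpCat.hom_ext (MonoidHom.ext fun g => funext fun p => by
    change g ⟨p.1, (Φ p.1).fiber.map (𝟙 V.unop) p.2⟩ = g p
    rw [CategoryTheory.Functor.map_id]
    rfl)
  map_comp {A B D} f f' := GrpCat.hom_ext (MonoidHom.ext fun g => funext fun p => by
    change g ⟨p.1, (Φ p.1).fiber.map (f'.unop ≫ f.unop) p.2⟩ =
      g ⟨p.1, (Φ p.1).fiber.map f.unop ((Φ p.1).fiber.map f'.unop p.2)⟩
    rw [Functor.map_comp]
    rfl)

theorem godPre_map_apply {V W : C} (f : W ⟶ V) (g : (godPre Φ M).obj (op V)) (i : I)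
    (t : (Φ i).fiber.obj W) :
    ((godPre Φ M).map f.op g : ∀ p : Pt Φ W, M p.1) ⟨i, t⟩ = g ⟨i, (Φ i).fiber.map f t⟩ := rfl

theorem isSheaf_godPre : Presheaf.IsSheaf J (godPre Φ M) := by
  intro E V S hS x hx
  choose T f hf y hy using fun p : Pt Φ V => (Φ p.1).jointly_surjective S hS p.2
  let x' : ∀ {T : C} (f : T ⟶ V), S f → (E ⟶ (godPre Φ M).obj (op T)) := fun {_} f hf => x f hf
  have key : ∀ {T₁ T₂ : C} (f₁ : T₁ ⟶ V) (h₁ : S f₁) (f₂ : T₂ ⟶ V) (h₂ : S f₂) (i : I)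
      (y₁ : (Φ i).fiber.obj T₁) (y₂ : (Φ i).fiber.obj T₂),
      (Φ i).fiber.map f₁ y₁ = (Φ i).fiber.map f₂ y₂ →
      ∀ e : E, (x' f₁ h₁ e : ∀ p : Pt Φ T₁, M p.1) ⟨i, y₁⟩ = (x' f₂ h₂ e : ∀ p : Pt Φ T₂, M p.1) ⟨i, y₂⟩ := by
    intro T₁ T₂ f₁ h₁ f₂ h₂ i y₁ y₂ h e
    obtain ⟨Z, z, k, l, hk, hl, hkl⟩ := refine_over (Φ i) f₁ f₂ y₁ y₂ h
    subst hk hl
    exact congrArg (fun φ : E ⟶ (godPre Φ M).obj (op Z) => (φ e : ∀ p : Pt Φ Z, M p.1) ⟨i, z⟩)
      (hx k l h₁ h₂ hkl)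
  let t : E ⟶ (godPre Φ M).obj (op V) := GrpCat.ofHom
    { toFun e := fun p => (x' (f p) (hf p) e : ∀ q : Pt Φ (T p), M q.1) ⟨p.1, y p⟩
      map_one' := by funext p; rw [map_one]; rfl
      map_mul' a b := by funext p; rw [map_mul]; rfl }
  refine ⟨t, fun W g hg => ?_, fun t' ht' => ?_⟩
  · refine GrpCat.hom_ext (MonoidHom.ext fun e => funext fun ⟨i, q⟩ => ?_)
    exact key _ (hf _) g hg i _ q (hy ⟨i, _⟩) e
  · refine GrpCat.hom_ext (MonoidHom.ext fun e => funext fun ⟨i, q⟩ => ?_)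
    change _ = (x' (f ⟨i, q⟩) (hf _) e : ∀ q : Pt Φ _, M q.1) ⟨i, y ⟨i, q⟩⟩
    rw [show x' (f ⟨i, q⟩) (hf _) = (t' : E ⟶ _) ≫ (godPre Φ M).map (f ⟨i, q⟩).op from
      (ht' _ (hf _)).symm]
    let t'' : E ⟶ (godPre Φ M).obj (op V) := t'
    change _ = (t'' e : ∀ p : Pt Φ V, M p.1) ⟨i, (Φ i).fiber.map (f ⟨i, q⟩) (y ⟨i, q⟩)⟩
    rw [hy ⟨i, q⟩]

/-- The product of skyscraper sheaves. -/
def godSheaf : Sheaf J GrpCat.{u + 1} := ⟨godPre Φ M, isSheaf_godPre Φ M⟩

/-- Torsors under a product of skyscraper sheaves have a global section. -/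
theorem exists_section {U : C} (P : Torsor ((godSheaf Φ M).over U)) :
    Nonempty (P.P.obj.obj (op (Over.mk (𝟙 U)))) := by
  obtain ⟨S, hS, hne⟩ := P.isTorsor.2 (Over.mk (𝟙 U))
  have hpt := P.isTorsor.1
  let top : Over U := Over.mk (𝟙 U)
  let toTop : ∀ W : Over U, W ⟶ top := fun W => Over.homMk W.hom (Category.comp_id _)
  have htop : ∀ {W : Over U} (g : W ⟶ top), g = toTop W := fun g =>
    Over.OverMorphism.ext ((Category.comp_id g.left).symm.trans (Over.w g))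
  let s : ∀ (W : Over U), S (toTop W) → P.P.obj.obj (op W) := fun W h => (hne _ h).some
  have hS' : Sieve.overEquiv top S ∈ J U := (J.mem_over_iff S).1 hS
  choose T f hf y hy using fun (i : I) (t₀ : (Φ i).fiber.obj U) =>
    (Φ i).jointly_surjective _ hS' t₀
  have hfS : ∀ i t₀, S (toTop (Over.mk (f i t₀))) := fun i t₀ => by
    have := (Sieve.overEquiv_iff S (f i t₀)).1 (hf i t₀)
    rw [htop (Over.homMk _ _)] at this
    have e : (Over.mk (f i t₀ ≫ top.hom) : Over U) = Over.mk (f i t₀) := by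
      show Over.mk (f i t₀ ≫ 𝟙 U) = _
      rw [Category.comp_id]
    exact e ▸ this
  let a : ∀ i t₀, P.P.obj.obj (op (Over.mk (f i t₀))) := fun i t₀ => s _ (hfS i t₀)
  -- the value of the correction at a point
  let Rel : ∀ (W : Over U), P.P.obj.obj (op W) → ∀ i : I, (Φ i).fiber.obj W.left →
      (Φ i).fiber.obj U → M i → Prop := fun W sW i t t₀ m =>
    ∃ (Z : Over U) (k : Z ⟶ W) (l : Z ⟶ Over.mk (f i t₀)) (z : (Φ i).fiber.obj Z.left)
      (h : ((godSheaf Φ M).over U).obj.obj (op Z)),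
      (Φ i).fiber.map k.left z = t ∧ (Φ i).fiber.map l.left z = y i t₀ ∧
      P.smul h (P.P.obj.map k.op sW) = P.P.obj.map l.op (a i t₀) ∧
      (h : ∀ p : Pt Φ Z.left, M p.1) ⟨i, z⟩ = m
  have hex : ∀ W sW i t, ∃ m, Rel W sW i t ((Φ i).fiber.map W.hom t) m := by
    intro W sW i t
    obtain ⟨Z, z, k, l, hk, hl, hkl⟩ := refine_over (Φ i) W.hom (f i _) t (y i _) (hy i _).symm
    let k' : Over.mk (k ≫ W.hom) ⟶ W := Over.homMk k rfl
    let l' : Over.mk (k ≫ W.hom) ⟶ Over.mk (f i ((Φ i).fiber.map W.hom t)) := Over.homMk l hkl.symm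
    obtain ⟨h, hh, -⟩ := hpt _ (P.P.obj.map k'.op sW) (P.P.obj.map l'.op (a _ _))
    exact ⟨_, Over.mk (k ≫ W.hom), k', l', z, h, hk, hl, hh, rfl⟩
  have huniq : ∀ W sW i t t₀ m m', Rel W sW i t t₀ m → Rel W sW i t t₀ m' → m = m' := by
    rintro W sW i t t₀ m m' ⟨Z, k, l, z, h, hk, hl, hh, rfl⟩ ⟨Z', k', l', z', h', hk', hl', hh', rfl⟩
    obtain ⟨A, a', p, p', hp, hp', hpp⟩ := refine_over (Φ i) k.left k'.left z z' (hk.trans hk'.symm)
    obtain ⟨B, b, e, he, hee⟩ := equalize (Φ i) (p ≫ l.left) (p' ≫ l'.left) a' (by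
      simp [hp, hp', hl, hl'])
    let pe : Over.mk ((e ≫ p) ≫ Z.hom) ⟶ Z := Over.homMk (e ≫ p) rfl
    let pe' : Over.mk ((e ≫ p) ≫ Z.hom) ⟶ Z' := Over.homMk (e ≫ p') (by
      show (e ≫ p') ≫ Z'.hom = (e ≫ p) ≫ Z.hom
      rw [← Over.w k, ← Over.w k', Category.assoc, Category.assoc]
      exact congrArg (e ≫ ·) (by rw [← Category.assoc, ← hpp, Category.assoc]))
    have e₁ : pe ≫ k = pe' ≫ k' := Over.OverMorphism.ext (by
      show (e ≫ p) ≫ k.left = (e ≫ p') ≫ k'.left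
      simp [hpp])
    have e₂ : pe ≫ l = pe' ≫ l' := Over.OverMorphism.ext (by
      show (e ≫ p) ≫ l.left = (e ≫ p') ≫ l'.left
      simpa using hee)
    have h₁ : P.smul (((godSheaf Φ M).over U).obj.map pe.op h) (P.P.obj.map (pe ≫ k).op sW) =
        P.P.obj.map (pe ≫ l).op (a i t₀) := by
      have := congrArg (P.P.obj.map pe.op) hh
      rw [P.map_smul] at this
      simpa using this
    have h₂ : P.smul (((godSheaf Φ M).over U).obj.map pe'.op h') (P.P.obj.map (pe ≫ k).op sW) =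
        P.P.obj.map (pe ≫ l).op (a i t₀) := by
      rw [e₁, e₂]
      have := congrArg (P.P.obj.map pe'.op) hh'
      rw [P.map_smul] at this
      simpa using this
    have h₃ := (hpt _ _ _).unique h₁ h₂
    have h₄ : (h : ∀ q : Pt Φ Z.left, M q.1) ⟨i, (Φ i).fiber.map (e ≫ p) b⟩ =
        (h' : ∀ q : Pt Φ Z'.left, M q.1) ⟨i, (Φ i).fiber.map (e ≫ p') b⟩ :=
      congrArg (fun g : ((godSheaf Φ M).over U).obj.obj (op (Over.mk ((e ≫ p) ≫ Z.hom))) =>
        (g : ∀ q : Pt Φ B, M q.1) ⟨i, b⟩) h₃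
    have eh : (Φ i).fiber.map (e ≫ p) b = z := by
      rw [Functor.map_comp]; exact (congrArg _ he).trans hp
    have eh' : (Φ i).fiber.map (e ≫ p') b = z' := by
      rw [Functor.map_comp]; exact (congrArg _ he).trans hp'
    rw [eh, eh'] at h₄
    exact h₄
  choose g hg using fun (W : Over U) (hW : S (toTop W)) (i : I) (t : (Φ i).fiber.obj W.left) =>
    hex W (s W hW) i t
  let gW : ∀ (W : Over U), S (toTop W) → ((godSheaf Φ M).over U).obj.obj (op W) :=
    fun W hW => (fun p => g W hW p.1 p.2 : ∀ p : Pt Φ W.left, M p.1)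
  let fam : Presieve.FamilyOfElements P.P.obj S.arrows := fun W b hb =>
    P.smul (gW W (htop b ▸ hb)) (s W (htop b ▸ hb))
  have compat : ∀ {W W' : Over U} (k : W' ⟶ W) (hW : S (toTop W)) (hW' : S (toTop W')),
      P.P.obj.map k.op (P.smul (gW W hW) (s W hW)) = P.smul (gW W' hW') (s W' hW') := by
    intro W W' k hW hW'
    obtain ⟨c, hc, -⟩ := hpt (op W') (P.P.obj.map k.op (s W hW)) (s W' hW')
    have hc' : ((godSheaf Φ M).over U).obj.map k.op (gW W hW) = gW W' hW' * c := by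
      refine funext fun q => ?_
      change g W hW q.1 ((Φ q.1).fiber.map k.left q.2) =
        g W' hW' q.1 q.2 * (c : ∀ p : Pt Φ W'.left, M p.1) q
      obtain ⟨i, t⟩ := q
      obtain ⟨Z, k', l', z, h, hk', hl', hh, hm⟩ := hg W' hW' i t
      have ht : (Φ i).fiber.map W'.hom t = (Φ i).fiber.map W.hom ((Φ i).fiber.map k.left t) := by
        rw [← Over.w k, Functor.map_comp]
        rfl
      refine huniq W (s W hW) i _ _ _ _ (hg W hW i _) (ht ▸ ?_)
      refine ⟨Z, k' ≫ k, l', z, h * ((godSheaf Φ M).over U).obj.map k'.op c, ?_, hl', ?_, ?_⟩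
      · simp [← hk']
      · rw [P.mul_smul, ← hh]
        congr 1
        have := congrArg (P.P.obj.map k'.op) hc
        rw [P.map_smul] at this
        simpa using this
      · rw [← hm]
        change (h : ∀ p : Pt Φ Z.left, M p.1) ⟨i, z⟩ *
          (c : ∀ p : Pt Φ W'.left, M p.1) ⟨i, (Φ i).fiber.map k'.left z⟩ = _
        rw [hk']
    rw [P.map_smul, hc', P.mul_smul, hc]
  have hfam : fam.Compatible := by
    rw [Presieve.compatible_iff_sieveCompatible]
    intro W W' b k hb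
    exact (compat k (htop b ▸ hb) (htop (k ≫ b) ▸ S.downward_closed hb k)).symm
  obtain ⟨p, -, -⟩ := ((isSheaf_iff_isSheaf_of_type _ _).1 P.P.property) S hS fam hfam
  exact ⟨p⟩

/-- Torsors under a product of skyscraper sheaves are trivial. -/
theorem isTrivial {U : C} [(J.over U).HasSheafCompose (forget GrpCat.{u + 1})]
    (P : Torsor ((godSheaf Φ M).over U)) :
    GSheaf.IsTrivial.{u + 1, u, u + 1} P.toGSheaf := by
  obtain ⟨p₀⟩ := exists_section Φ M P
  let G' := (godSheaf Φ M).over U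
  let toTop : ∀ W : Over U, W ⟶ Over.mk (𝟙 U) := fun W => Over.homMk W.hom (Category.comp_id _)
  let σ : ∀ W : (Over U)ᵒᵖ, P.P.obj.obj W := fun W => P.P.obj.map (toTop W.unop).op p₀
  have hσ : ∀ {W W' : (Over U)ᵒᵖ} (k : W ⟶ W'), P.P.obj.map k (σ W) = σ W' := by
    intro W W' k
    have : (toTop W.unop).op ≫ k = (toTop W'.unop).op := Quiver.Hom.unop_inj
      (Over.OverMorphism.ext (by simpa [toTop] using Over.w k.unop))
    simp only [σ, ← this, Functor.map_comp]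
    rfl
  let β : ∀ W : (Over U)ᵒᵖ, P.P.obj.obj W → G'.obj.obj W :=
    fun W p => (P.isTorsor.1 W (σ W) p).choose
  have hβ : ∀ W p, P.smul (β W p) (σ W) = p := fun W p =>
    (P.isTorsor.1 W (σ W) p).choose_spec.1
  have hβu : ∀ W (g : G'.obj.obj W) p, P.smul g (σ W) = p → β W p = g := fun W g p hg =>
    (P.isTorsor.1 W (σ W) p).unique (hβ W p) hg
  let fwd : GSheaf.trivial.{u + 1, u, u + 1} G' ⟶ P.toGSheaf :=
    ⟨⟨{ app := fun W => ↾fun x => P.smul (GSheaf.toGrp x) (σ W)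
        naturality := fun W W' k => by
          ext x
          change P.smul (G'.obj.map k (GSheaf.toGrp x)) (σ W') =
            P.P.obj.map k (P.smul (GSheaf.toGrp x) (σ W))
          rw [P.map_smul, hσ] }⟩,
      fun g x => P.mul_smul g (GSheaf.toGrp x) (σ _)⟩
  let bwd : P.toGSheaf ⟶ GSheaf.trivial.{u + 1, u, u + 1} G' :=
    ⟨⟨{ app := fun W => ↾fun p => GSheaf.ofGrp (β W p)
        naturality := fun W W' k => by
          ext p
          change β W' (P.P.obj.map k p) = G'.obj.map k (β W p)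
          refine hβu _ _ _ ?_
          conv_rhs => rw [← hβ W p, P.map_smul, hσ] }⟩,
      fun {W} g p => by
        change β W (P.smul g p) = g * β W p
        refine hβu _ _ _ ?_
        rw [P.mul_smul, hβ]⟩
  refine ⟨⟨fwd, bwd, ?_, ?_⟩⟩
  · refine GSheaf.hom_ext (Sheaf.hom_ext ?_)
    ext W x
    change β W (P.smul (GSheaf.toGrp x) (σ W)) = GSheaf.toGrp x
    exact hβu _ _ _ rfl
  · refine GSheaf.hom_ext (Sheaf.hom_ext ?_)
    ext W p
    exact hβ W p

/-- The canonical map into the product of the skyscraper sheaves at the stalks. -/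
noncomputable def unit (F : Sheaf J GrpCat.{u + 1}) :
    F ⟶ godSheaf Φ (fun i => stalk (Φ i) F.obj) :=
  ⟨{ app := fun V => GrpCat.ofHom
      { toFun z := fun p => germ (Φ p.1) F.obj p.2 z
        map_one' := funext fun _ => map_one _
        map_mul' _ _ := funext fun _ => map_mul _ _ _ }
     naturality := fun V W f => by
      refine GrpCat.hom_ext (MonoidHom.ext fun z => funext fun p => ?_)
      exact germ_w (Φ p.1) F.obj f.unop p.2 z }⟩

/-- The canonical map is injective if the family of points detects covering sieves. -/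
theorem unit_injective (F : Sheaf J GrpCat.{u + 1})
    (hΦ : ∀ {V : C} (S : Sieve V), (∀ i (x : (Φ i).fiber.obj V),
      ∃ (Y : C) (f : Y ⟶ V) (_ : S f) (y : (Φ i).fiber.obj Y), (Φ i).fiber.map f y = x) → S ∈ J V)
    (V : Cᵒᵖ) : Function.Injective ((unit Φ F).hom.app V) := by
  intro z z' h
  let S : Sieve V.unop :=
    { arrows := fun _ f => F.obj.map f.op z = F.obj.map f.op z'
      downward_closed := fun {_ _} _ hf g => by
        simp only [op_comp, Functor.map_comp] at *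
        simp [hf] }
  refine CechTorsor.group_sep S (hΦ S fun i x => ?_) fun T f hf => hf
  obtain ⟨Y, f, y, hy, he⟩ := germ_eq (Φ i) F.obj x
    (congrArg (fun g : (godPre Φ (fun j => stalk (Φ j) F.obj)).obj V =>
      (g : ∀ p : Pt Φ V.unop, stalk (Φ p.1) F.obj) ⟨i, x⟩) h)
  exact ⟨Y, f, he, y, hy⟩

end Groth.Agent.GodGrp
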